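import Cfsg.Agent.OddHalf.D4.Rk2.Setup

-- merged: Cfsg.Agent.OddHalf.D4.Rk2.Full
section

/-!
# D4, `K = L₂(q)`: full pairs

`cj a (RR A T) ≤ T`, `a ∉ N(A)`: it commutes with `RR A T` (`comm_of_full`).
-/

set_option autoImplicit false
set_option linter.unusedSectionVars false

namespace Cfsg.Agent.OddHalf.D4.Rk2

open Subgroup Cfsg.Agent.StdL2.Frame Cfsg.Agent.StdL2.Field
open Cfsg.Agent.StdL2.FrameFT (VV mem_VV up_mem_VV VV_le VV_sq card_VV le_VV sem ent_ne cent_VV cent_of_fld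
  exists_fixed ent_of_conj conj_up eq_up dg_conj)
open Cfsg.Agent.Lib.SL2Mat Cfsg.Agent.Lib.AutSL2 Cfsg.Agent.StdRank2.OutField
open Cfsg.Agent.StdL2.FieldStart (exists_normalizer_gt)
open Cfsg.Agent.OddHalf.D4.CommConj (cj mem_cj cj_mul card_cj cj_eq_of_mem_normalizer mem_normalizer_of_cj_eq
  mem_cj_mul Tight)
open Cfsg.Agent.OddHalf.D4.Basic (IsSyl exists_isSyl orderOf_conj)

local notation "SL2" => Matrix.SpecialLinearGroup (Fin 2)

universe u

variable {F : Type*} [Field F] {G : Type u} [Group G] {A T : Subgroup G} {π : SL2 F →* G}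

namespace Fr

variable [Finite F] [CharP F 2] [Finite G] (H : Fr A T π)
include H

/-- a 2-element of `C ∩ C^a`, `a ∉ M`, is trivial -/
theorem eq_one_of_both {a x : G} (ha : a ∉ normalizer (A : Set G)) (hx : x ∈ centralizer (A : Set G))
    (hxa : a⁻¹ * x * a ∈ centralizer (A : Set G)) {m : ℕ} (hm : x ^ 2 ^ m = 1) : x = 1 := by
  by_contra h1
  obtain ⟨k, hk⟩ := exists_pow_invol h1 hm
  apply ha
  have h2 : a⁻¹ ∈ normalizer (A : Set G) := by
    apply H.tight.tight a⁻¹ (x ^ k) ((centralizer (A : Set G)).pow_mem hx k) hk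
    have e : a⁻¹ * x ^ k * a⁻¹⁻¹ = (a⁻¹ * x * a⁻¹⁻¹) ^ k := (conj_pow).symm
    rw [e, inv_inv]
    exact (centralizer (A : Set G)).pow_mem hxa k
  exact (inv_mem_iff).1 h2

/-- `C(u) ≤ M^a` for a nontrivial 2-element `u` of `C^a` -/
theorem mem_of_comm' {a x g : G} (hx : a⁻¹ * x * a ∈ centralizer (A : Set G)) (hx1 : x ≠ 1) {m : ℕ}
    (hm : x ^ 2 ^ m = 1) (hg : g * x = x * g) : a⁻¹ * g * a ∈ normalizer (A : Set G) := by
  obtain ⟨k, hk⟩ := exists_pow_invol hx1 hm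
  apply H.mem_of_comm (x := x ^ k) _ hk
  · exact (show Commute g x from hg).pow_right k
  · have e : a⁻¹ * x ^ k * a = (a⁻¹ * x * a) ^ k := by
      have := conj_pow (i := k) (a := a⁻¹) (b := x)
      rw [inv_inv] at this
      exact this.symm
    rw [e]
    exact (centralizer (A : Set G)).pow_mem hx k

/-- if `g ∈ M^a` then `[g, u] ∈ C^a` for `u ∈ C^a` -/
theorem comm_mem_of {a u g : G} (hu : a⁻¹ * u * a ∈ centralizer (A : Set G))
    (hg : a⁻¹ * g * a ∈ normalizer (A : Set G)) : a⁻¹ * (g * u * g⁻¹ * u⁻¹) * a ∈ centralizer (A : Set G) := by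
  have h1 := H.tight.norm _ hg _ hu
  have h2 : a⁻¹ * (g * u * g⁻¹ * u⁻¹) * a =
      a⁻¹ * g * a * (a⁻¹ * u * a) * (a⁻¹ * g * a)⁻¹ * (a⁻¹ * u * a)⁻¹ := by group
  rw [h2]
  exact mul_mem h1 (inv_mem hu)

/-- **Pair lemma.** -/
theorem comm_of_full {a : G} (ha : a ∉ normalizer (A : Set G)) (hU : cj a (RR A T) ≤ T) :
    ∀ x ∈ cj a (RR A T), ∀ y ∈ RR A T, x * y = y * x := by
  set R := RR A T with hR
  set U := cj a R with hUdef
  have hU2 : IsPGroup 2 U := isPGroup_cj H.R2 a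
  have hdisj : ∀ x, x ∈ U → x ∈ R → x = 1 := by
    intro x hxU hxR
    obtain ⟨m, hm⟩ := exists_pow_of_mem hU2 hxU
    exact H.eq_one_of_both ha (mem_RR.1 hxR).2 (mem_cj.1 hxU).2 hm
  have hnorm : ∀ u ∈ T, ∀ r ∈ R, u * r * u⁻¹ ∈ R := by
    intro u hu r hr
    exact ⟨T.mul_mem (T.mul_mem hu hr.1) (T.inv_mem hu), H.tight.norm _ (H.nT hu) _ hr.2⟩
  have key : ∀ u ∈ U, u ≠ 1 → ∀ r ∈ R, r * u = u * r → ∀ u1 ∈ U, r * u1 = u1 * r := by
    intro u hu hu1 r hr hru u1 hu1'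
    obtain ⟨m, hm⟩ := exists_pow_of_mem hU2 hu
    have h1 : a⁻¹ * r * a ∈ normalizer (A : Set G) := H.mem_of_comm' (mem_cj.1 hu).2 hu1 hm hru
    have h2 := H.comm_mem_of (mem_cj.1 hu1').2 h1
    have h3 : r * u1 * r⁻¹ * u1⁻¹ ∈ R := by
      have h4 : r * u1 * r⁻¹ * u1⁻¹ = r * (u1 * r⁻¹ * u1⁻¹) := by group
      rw [h4]
      exact R.mul_mem hr (hnorm u1 (hU hu1') _ (R.inv_mem hr))
    obtain ⟨m', hm'⟩ := exists_pow_of_mem H.R2 h3
    have h5 := H.eq_one_of_both ha h3.2 h2 hm'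
    have h6 : r * u1 * r⁻¹ = u1 := mul_inv_eq_one.mp h5
    exact mul_inv_eq_iff_eq_mul.mp h6
  set R1 := R ⊓ centralizer (U : Set G) with hR1
  by_cases hcase : R ≤ R1
  · intro x hx y hy
    exact (mem_cent.1 (hcase hy).2 x hx).symm
  exfalso
  have hlt : R1 < R := lt_of_le_of_ne inf_le_left (fun h => hcase (h ▸ le_rfl))
  have hR1c : ∀ r ∈ R1, ∀ u ∈ U, r * u = u * r := fun r hr => mem_cent.1 hr.2
  -- the groups `R U` and `R1 U`
  have hUR : U ≤ normalizer (R : Set G) := by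
    intro u hu
    apply mem_normalizer_of_cj_eq
    have h1 : cj u R ≤ R := by
      rintro _ ⟨r, hr, rfl⟩
      exact hnorm u (hU hu) r hr
    exact eq_of_le_of_card_ge h1 (card_cj _ _).ge
  have hUR1 : U ≤ normalizer (R1 : Set G) := by
    intro u hu
    apply mem_normalizer_of_cj_eq
    have h1 : cj u R1 ≤ R1 := by
      rintro _ ⟨r, hr, rfl⟩
      have h2 := hR1c r hr u hu
      have h3 : (MulAut.conj u).toMonoidHom r = r := by
        show u * r * u⁻¹ = r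
        rw [← h2, mul_inv_cancel_right]
      rw [h3]; exact hr
    exact eq_of_le_of_card_ge h1 (card_cj _ _).ge
  have hmemRU : ∀ x ∈ U ⊔ R, ∃ u ∈ U, ∃ r ∈ R, x = u * r := by
    intro x hx
    have h1 : x ∈ ((U ⊔ R : Subgroup G) : Set G) := hx
    rw [coe_mul_of_left_le_normalizer_right U R hUR] at h1
    obtain ⟨u, hu, r, hr, rfl⟩ := h1
    exact ⟨u, hu, r, hr, rfl⟩
  have hmemW : ∀ x ∈ U ⊔ R1, ∃ u ∈ U, ∃ r ∈ R1, x = u * r := by
    intro x hx
    have h1 : x ∈ ((U ⊔ R1 : Subgroup G) : Set G) := hx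
    rw [coe_mul_of_left_le_normalizer_right U R1 hUR1] at h1
    obtain ⟨u, hu, r, hr, rfl⟩ := h1
    exact ⟨u, hu, r, hr, rfl⟩
  have hWlt : U ⊔ R1 < U ⊔ R := by
    refine lt_of_le_of_ne (sup_le_sup_left inf_le_left _) ?_
    intro h
    apply hlt.not_ge
    intro r hr
    have h1 : r ∈ U ⊔ R1 := by rw [h]; exact mem_sup_right hr
    obtain ⟨u, hu, r1, hr1, e⟩ := hmemW r h1
    have h2 : u = 1 := by
      apply hdisj u hu
      have : u = r * r1⁻¹ := by rw [e]; group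
      rw [this]
      exact R.mul_mem hr (R.inv_mem hr1.1)
    rw [e, h2, one_mul]
    exact hr1
  have h2RU : IsPGroup 2 (U ⊔ R : Subgroup G) := H.T2.to_le (sup_le hU H.RRT)
  obtain ⟨n, hn, hnW, hnN⟩ := exists_normalizer_gt h2RU hWlt
  obtain ⟨u0, hu0, r, hr, rfl⟩ := hmemRU n hn
  have hrW : r ∉ U ⊔ R1 := fun h => hnW (mul_mem (mem_sup_left hu0) h)
  have hrN : r ∈ normalizer ((U ⊔ R1 : Subgroup G) : Set G) := by
    have h1 : r = u0⁻¹ * (u0 * r) := by group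
    rw [h1]
    exact mul_mem (inv_mem (le_normalizer (mem_sup_left hu0))) hnN
  have hrR1 : r ∉ R1 := fun h => hrW (mem_sup_right h)
  have hcomm : ∀ u ∈ U, r * u * r⁻¹ * u⁻¹ ∈ R1 := by
    intro u hu
    have h1 : r * u * r⁻¹ ∈ U ⊔ R1 := (mem_normalizer_iff.1 hrN u).1 (mem_sup_left hu)
    obtain ⟨u2, hu2, r1, hr1, e⟩ := hmemW _ h1
    have h3 : r * u * r⁻¹ * u⁻¹ ∈ R := by
      have h4 : r * u * r⁻¹ * u⁻¹ = r * (u * r⁻¹ * u⁻¹) := by group
      rw [h4]
      exact R.mul_mem hr (hnorm u (hU hu) _ (R.inv_mem hr))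
    have h5 : u2 * u⁻¹ = 1 := by
      apply hdisj _ (U.mul_mem hu2 (U.inv_mem hu))
      have h6 : r * u * r⁻¹ * u⁻¹ = r1 * (u2 * u⁻¹) := by
        rw [e, ← hR1c r1 hr1 u2 hu2, mul_assoc]
      have h7 : u2 * u⁻¹ = r1⁻¹ * (r * u * r⁻¹ * u⁻¹) := by rw [h6]; group
      rw [h7]
      exact R.mul_mem (R.inv_mem hr1.1) h3
    have h8 : r * u * r⁻¹ * u⁻¹ = r1 := by
      rw [e, ← hR1c r1 hr1 u2 hu2, mul_assoc, h5, mul_one]
    rw [h8]; exact hr1
  have hinj : Function.Injective (fun u : U => (⟨r * u * r⁻¹ * (u : G)⁻¹, hcomm u u.2⟩ : R1)) := by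
    intro u v huv
    have h1 : r * (u : G) * r⁻¹ * (u : G)⁻¹ = r * v * r⁻¹ * (v : G)⁻¹ := congrArg Subtype.val huv
    by_contra hne
    apply hrR1
    refine ⟨hr, mem_cent.2 ?_⟩
    have h2 : (v : G)⁻¹ * u ≠ 1 := by
      intro h
      exact hne (Subtype.ext (inv_mul_eq_one.mp h).symm)
    apply key ((v : G)⁻¹ * u) (U.mul_mem (U.inv_mem v.2) u.2) h2 r hr
    have h3 : (u : G) * r⁻¹ * (u : G)⁻¹ = v * r⁻¹ * (v : G)⁻¹ := by
      have : r⁻¹ * (r * (u : G) * r⁻¹ * (u : G)⁻¹) = r⁻¹ * (r * v * r⁻¹ * (v : G)⁻¹) := by rw [h1]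
      simpa [mul_assoc] using this
    have h4 : ((v : G)⁻¹ * u) * r⁻¹ = r⁻¹ * ((v : G)⁻¹ * u) := by
      calc ((v : G)⁻¹ * u) * r⁻¹ = (v : G)⁻¹ * ((u : G) * r⁻¹ * (u : G)⁻¹) * u := by group
        _ = r⁻¹ * ((v : G)⁻¹ * u) := by rw [h3]; group
    calc r * ((v : G)⁻¹ * u) = r * (((v : G)⁻¹ * u) * r⁻¹) * r := by group
      _ = ((v : G)⁻¹ * u) * r := by rw [h4]; group
  have hc := Nat.card_le_card_of_injective _ hinj
  have hcU : Nat.card U = Nat.card R := card_cj a R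
  have hle : Nat.card R ≤ Nat.card R1 := hcU ▸ hc
  exact hlt.ne (eq_of_le_of_card_ge hlt.le hle)

/-- `T ∩ C^a = R^a` if `R^a ≤ T` -/
theorem mem_cj_of_mem {a x : G} (hU : cj a (RR A T) ≤ T) (hx : x ∈ T)
    (hxa : a⁻¹ * x * a ∈ centralizer (A : Set G)) : x ∈ cj a (RR A T) := by
  have h1 := isSyl_cj H.sylR a
  have h2 : T ⊓ cj a (centralizer (A : Set G)) ≤ cj a (RR A T) := by
    apply h1.max _ (H.T2.to_le inf_le_left) (le_inf hU h1.le) inf_le_right
  exact h2 ⟨hx, mem_cj.2 hxa⟩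

/-- if a field involution acts on the root group by `x ↦ c σ(x)`: the elements `t + c σ(t)` -/
theorem exists_trace' {σ : F ≃+* F} (h1 : σ ≠ 1) (h2 : σ * σ = 1) {c : F} (hc : c * σ c = 1) {w : F}
    (hw : c * σ w = w) : ∃ t, t + c * σ t = w := by
  obtain ⟨k, hk0, hk⟩ := exists_fixed h1 h2 hc
  have hc0 : c ≠ 0 := by
    rintro rfl
    rw [zero_mul] at hc
    exact zero_ne_one hc
  have hσk : σ k ≠ 0 := fun h => hk0 (by rwa [map_eq_zero] at h)
  have h3 : σ (w / k) = w / k := by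
    rw [map_div₀]
    field_simp
    apply mul_left_cancel₀ hc0
    linear_combination k * hw - w * hk
  obtain ⟨r, hr⟩ := exists_trace h2 h1 h3
  refine ⟨k * r, ?_⟩
  rw [map_mul, ← mul_assoc, hk, ← mul_add, hr]
  field_simp

/-- the coordinates of an element of `T` of field type -/
theorem coords {v : G} (hv : v ∈ T) (h1 : ∃ w ∈ VV π, v * w ≠ w * v)
    (h2 : ∀ w ∈ VV π, (v * v) * w = w * (v * v)) :
    ∃ (σ : F ≃+* F) (y : SL2 F), σ ≠ 1 ∧ σ * σ = 1 ∧ Acts π v y σ ∧ ent y 1 0 = 0 ∧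
      ∀ b, v * π (up b) * v⁻¹ = π (up (ent y 0 0 ^ 2 * σ b)) := by
  obtain ⟨y, hy, h0, h3⟩ := sem H.P (H.nT hv) (fun w hw => H.Vn hv hw)
  refine ⟨_, y, ?_, ?_, hy, h0, h3⟩
  · intro h
    obtain ⟨w, hw, h4⟩ := h1
    exact h4 ((H.fl_eq_one ⟨v, hv⟩).1 h w hw)
  · rw [← map_mul]
    exact (H.fl_eq_one ⟨v * v, T.mul_mem hv hv⟩).2 h2

/-- a field involution of `T` commutes with an element of `A` outside `N(VV π)` -/
theorem exists_comm {v : G} (hv : v ∈ T) (h1 : ∃ w ∈ VV π, v * w ≠ w * v) (h2 : v * v = 1) :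
    ∃ x : SL2 F, ent x 1 0 ≠ 0 ∧ v * π x = π x * v := by
  obtain ⟨σ, y, hσ1, hσ2, hy, hy0, hact⟩ := H.coords hv h1 (by intro w _; rw [h2, one_mul, mul_one])
  set a := ent y 0 0 with ha
  set b := ent y 0 1 with hb
  have hd : ent y 1 1 = a⁻¹ := by
    have := det_eq y
    rw [hy0, mul_zero, sub_zero] at this
    exact eq_inv_of_mul_eq_one_right this
  have ha0 : a ≠ 0 := ent_ne y hy0
  have e2 : (2 : F) = 0 := CharTwo.two_eq_zero
  -- `y σ(y) = 1`
  have hyy : y * fieldAut σ y = 1 := by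
    have h3 : Acts π (v * v) (y * fieldAut σ y) (σ * σ) := hy.mul hy
    rw [h2] at h3
    exact (h3.unique H.P Acts.one).1
  have m00 : a * σ a = 1 := by
    have := congrArg (fun w => ent w 0 0) hyy
    simp only [ent_mul, fieldAut_ent, hy0, map_zero, mul_zero, add_zero, ent_one_00] at this
    exact this
  have hσa : σ a = a⁻¹ := eq_inv_of_mul_eq_one_right m00
  have m01 : a * σ b + b * a = 0 := by
    have := congrArg (fun w => ent w 0 1) hyy
    simp only [ent_mul, fieldAut_ent, hd, map_inv₀, ent_one_01] at this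
    rw [← ha, ← hb, hσa, inv_inv] at this
    exact this
  have hσb : σ b = b := by
    have h3 : a * (σ b - b) = 0 := by linear_combination m01 - a * b * e2
    rcases mul_eq_zero.1 h3 with h | h
    · exact absurd h ha0
    · exact sub_eq_zero.1 h
  have hc : a ^ 2 * σ (a ^ 2) = 1 := by
    rw [map_pow, ← mul_pow, m00, one_pow]
  obtain ⟨t, ht⟩ := exists_trace' (F := F) H hσ1 hσ2 hc (w := a * b) (by
    rw [map_mul, hσa, hσb]; field_simp)
  -- the fixed lower element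
  have hc' : (a ^ 2)⁻¹ * σ (a ^ 2)⁻¹ = 1 := by
    rw [map_inv₀, ← mul_inv, hc, inv_one]
  obtain ⟨e, he0, he⟩ := exists_fixed hσ1 hσ2 hc'
  refine ⟨(up t)⁻¹ * lo e * up t, ?_, ?_⟩
  · rw [up_inv, ent_mul, ent_mul, ent_mul]
    simpa using he0
  · have h3 := hy ((up t)⁻¹ * lo e * up t)
    have h4 : y * fieldAut σ ((up t)⁻¹ * lo e * up t) * y⁻¹ = (up t)⁻¹ * lo e * up t := by
      have hD : up t * y * (fieldAut σ (up t))⁻¹ = dg a ha0 := by
        rw [fieldAut_up, up_inv]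
        refine ext_ent ?_ ?_ ?_ ?_ <;>
          simp only [ent_mul, up_00, up_01, up_10, up_11, dg_00, dg_01, dg_10, dg_11, hy0, hd]
        · rw [← ha]; ring
        · rw [← ha, ← hb]
          have h5 : a * (a * -σ t + b + t * a⁻¹) = 0 := by
            field_simp
            linear_combination ht + (a * b - a ^ 2 * σ t) * e2
          rcases mul_eq_zero.1 h5 with h | h
          · exact absurd h ha0
          · linear_combination h
        · ring
        · ring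
      have hy' : y = (up t)⁻¹ * dg a ha0 * fieldAut σ (up t) := by rw [← hD]; group
      have h5 : dg a ha0 * fieldAut σ (lo e) * (dg a ha0)⁻¹ = lo e := by
        rw [fieldAut_lo, mul_inv_eq_iff_eq_mul]
        refine ext_ent ?_ ?_ ?_ ?_ <;>
          simp only [ent_mul, lo_00, lo_01, lo_10, lo_11, dg_00, dg_01, dg_10, dg_11]
        · ring
        · ring
        · have : σ e = a ^ 2 * e := (inv_mul_eq_iff_eq_mul₀ (pow_ne_zero 2 ha0)).1 he
          rw [this]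
          field_simp
          ring
        · ring
      rw [hy', map_mul, map_mul, map_inv]
      calc (up t)⁻¹ * dg a ha0 * fieldAut σ (up t) *
            ((fieldAut σ (up t))⁻¹ * fieldAut σ (lo e) * fieldAut σ (up t)) *
            ((up t)⁻¹ * dg a ha0 * fieldAut σ (up t))⁻¹
          = (up t)⁻¹ * (dg a ha0 * fieldAut σ (lo e) * (dg a ha0)⁻¹) * up t := by group
        _ = _ := by rw [h5]
    rw [h4] at h3
    exact mul_inv_eq_iff_eq_mul.1 h3

/-- `R ∩ R^a = 1` -/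
theorem eq_one_of_RR {a x : G} (ha : a ∉ normalizer (A : Set G)) (hx : x ∈ cj a (RR A T)) (hxR : x ∈ RR A T) :
    x = 1 := by
  obtain ⟨m, hm⟩ := exists_pow_of_mem (isPGroup_cj H.R2 a) hx
  exact H.eq_one_of_both ha hxR.2 (mem_cj.1 hx).2 hm

/-- `A` is not contained in `M^a` if some 2-element of `C^a ∩ T` is nontrivial -/
theorem not_le {a v : G} (ha : a ∉ normalizer (A : Set G)) (hU : cj a (RR A T) ≤ T)
    (hv : v ∈ cj a (RR A T)) (hv1 : v ≠ 1) (hA : ∀ x ∈ A, a⁻¹ * x * a ∈ normalizer (A : Set G)) : False := by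
  have := H.simple
  have hn : ((A ⊓ cj a (centralizer (A : Set G))).subgroupOf A).Normal := by
    refine ⟨fun x hx g => ?_⟩
    rw [mem_subgroupOf] at hx ⊢
    refine ⟨(g * x * g⁻¹).2, mem_cj.2 ?_⟩
    have h1 := H.tight.norm _ (hA g g.2) _ (mem_cj.1 hx.2)
    have h2 : a⁻¹ * ((g * x * g⁻¹ : A) : G) * a = a⁻¹ * g * a * (a⁻¹ * x * a) * (a⁻¹ * g * a)⁻¹ := by
      push_cast; group
    rw [h2]; exact h1
  rcases hn.eq_bot_or_eq_top with h | h
  · -- `v` centralizes `A`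
    have h1 : ∀ x ∈ A, x * v = v * x := by
      intro x hx
      have h2 := H.comm_mem_of (mem_cj.1 hv).2 (hA x hx)
      have h3 : x * v * x⁻¹ * v⁻¹ ∈ A := by
        have h4 : x * v * x⁻¹ * v⁻¹ = x * (v * x⁻¹ * v⁻¹) := by group
        rw [h4]
        exact A.mul_mem hx ((mem_normalizer_iff.1 (H.nT (hU hv)) _).1 (A.inv_mem hx))
      have h5 : (⟨_, h3⟩ : A) ∈ (A ⊓ cj a (centralizer (A : Set G))).subgroupOf A :=
        mem_subgroupOf.2 ⟨h3, mem_cj.2 h2⟩
      rw [h, mem_bot] at h5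
      have h6 : x * v * x⁻¹ * v⁻¹ = 1 := congrArg Subtype.val h5
      exact mul_inv_eq_iff_eq_mul.1 (mul_inv_eq_one.1 h6)
    apply hv1
    apply H.eq_one_of_RR ha hv
    exact ⟨hU hv, mem_cent.2 fun x hx => (h1 x hx).symm⟩
  · obtain ⟨x, hx, b, hb, hne⟩ := H.nc a
    apply hne
    have h1 : (⟨x, hx⟩ : A) ∈ (A ⊓ cj a (centralizer (A : Set G))).subgroupOf A := by rw [h]; trivial
    have h2 := mem_cj.1 (mem_subgroupOf.1 h1).2
    have h3 : a⁻¹ * x * a * b = b * (a⁻¹ * x * a) := mem_cent.1 h2 b hb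
    calc x * (a * b * a⁻¹) = a * (a⁻¹ * x * a * b) * a⁻¹ := by group
      _ = a * b * a⁻¹ * x := by rw [h3]; group

/-- `R^a` has an inner involution -/
theorem exists_inner {a : G} (hU : cj a (RR A T) ≤ T) :
    ∃ v ∈ cj a (RR A T), v ≠ 1 ∧ v * v = 1 ∧ ∀ w ∈ VV π, v * w = w * v := by
  obtain ⟨r, hr, s, hs, hr2, hs2, hrs, hne⟩ := H.two' (a := a)
  have hrr := mul_self_of_orderOf hr2
  have hss := mul_self_of_orderOf hs2
  have hr1 : r ≠ 1 := by
    rintro rfl; rw [orderOf_one] at hr2; omega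
  have hs1 : s ≠ 1 := by
    rintro rfl; rw [orderOf_one] at hs2; omega
  have hfr : H.fl ⟨r, hU hr⟩ * H.fl ⟨r, hU hr⟩ = 1 := by
    rw [← map_mul]
    have : (⟨r, hU hr⟩ * ⟨r, hU hr⟩ : T) = 1 := Subtype.ext hrr
    rw [this, map_one]
  have hfs : H.fl ⟨s, hU hs⟩ * H.fl ⟨s, hU hs⟩ = 1 := by
    rw [← map_mul]
    have : (⟨s, hU hs⟩ * ⟨s, hU hs⟩ : T) = 1 := Subtype.ext hss
    rw [this, map_one]
  by_cases h1 : H.fl ⟨r, hU hr⟩ = 1
  · exact ⟨r, hr, hr1, hrr, (H.fl_eq_one _).1 h1⟩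
  by_cases h2 : H.fl ⟨s, hU hs⟩ = 1
  · exact ⟨s, hs, hs1, hss, (H.fl_eq_one _).1 h2⟩
  refine ⟨r * s, mul_mem hr hs, ?_, ?_, ?_⟩
  · intro h
    apply hne
    have h3 : s = r⁻¹ := eq_inv_of_mul_eq_one_right h
    have h4 : r⁻¹ = r := inv_eq_of_mul_eq_one_left hrr
    rw [h3, h4]
  · calc r * s * (r * s) = r * (s * r) * s := by group
      _ = (r * r) * (s * s) := by rw [← hrs]; group
      _ = 1 := by rw [hrr, hss, one_mul]
  · have h3 : H.fl (⟨r, hU hr⟩ * ⟨s, hU hs⟩) = 1 := by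
      rw [map_mul, unique_invol hfr hfs h1 h2, hfs]
    exact (H.fl_eq_one _).1 h3

/-- **(i)** the involutions of a full pair are inner -/
theorem inner_of_invol {a v : G} (ha : a ∉ normalizer (A : Set G)) (hU : cj a (RR A T) ≤ T)
    (hv : v ∈ cj a (RR A T)) (hv2 : v * v = 1) : ∀ w ∈ VV π, v * w = w * v := by
  by_contra hcon
  push Not at hcon
  obtain ⟨v', hv', hv1', hv2', hc'⟩ := H.exists_inner hU
  obtain ⟨x, hx0, hx⟩ := H.exists_comm (hU hv) hcon hv2
  have hvne : v ≠ 1 := by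
    rintro rfl
    obtain ⟨w, _, hw⟩ := hcon
    exact hw (by rw [one_mul, mul_one])
  have h1 : VV π ≤ cj a (normalizer (A : Set G)) := by
    intro w hw
    rw [mem_cj]
    exact H.mem_of_comm (mem_cj.1 hv').2 (orderOf_eq_two hv2' hv1') (hc' w hw).symm
  have h2 : π x ∈ cj a (normalizer (A : Set G)) := by
    rw [mem_cj]
    exact H.mem_of_comm (mem_cj.1 hv).2 (orderOf_eq_two hv2 hvne) hx.symm
  have h3 := le_of_up H.P h1 h2 hx0
  exact H.not_le ha hU hv hvne (fun y hy => mem_cj.1 (h3 hy))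

/-- **(ii)** the elements of a full pair are inner -/
theorem inner {a v : G} (ha : a ∉ normalizer (A : Set G)) (hU : cj a (RR A T) ≤ T)
    (hv : v ∈ cj a (RR A T)) : ∀ w ∈ VV π, v * w = w * v := by
  by_contra hcon
  have e2 : (2 : F) = 0 := CharTwo.two_eq_zero
  -- reduction to `fl v` of order 2
  obtain ⟨v, hv, hσ1', hσ2'⟩ : ∃ v, ∃ (hv : v ∈ cj a (RR A T)), H.fl ⟨v, hU hv⟩ ≠ 1 ∧
      H.fl ⟨v, hU hv⟩ * H.fl ⟨v, hU hv⟩ = 1 := by
    have h1 : H.fl ⟨v, hU hv⟩ ≠ 1 := fun h => hcon ((H.fl_eq_one _).1 h)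
    obtain ⟨m, hm⟩ := exists_pow_of_mem (isPGroup_cj H.R2 a) hv
    have := finite_aut (F := F)
    obtain ⟨k, hk⟩ := exists_pow_invol h1 (m := m) (by
      rw [← map_pow]
      have : (⟨v, hU hv⟩ ^ 2 ^ m : T) = 1 := Subtype.ext hm
      rw [this, map_one])
    have h2 : H.fl ⟨v ^ k, hU (pow_mem hv k)⟩ = H.fl ⟨v, hU hv⟩ ^ k := by
      rw [← map_pow]; rfl
    refine ⟨v ^ k, pow_mem hv k, ?_, ?_⟩
    · rw [h2]
      intro h
      rw [h, orderOf_one] at hk
      omega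
    · rw [h2]; exact mul_self_of_orderOf hk
  have hc1 : ∃ w ∈ VV π, v * w ≠ w * v := by
    by_contra h
    push Not at h
    exact hσ1' ((H.fl_eq_one _).2 h)
  have hc2 : ∀ w ∈ VV π, (v * v) * w = w * (v * v) := by
    have h1 : H.fl (⟨v, hU hv⟩ * ⟨v, hU hv⟩) = 1 := by rw [map_mul, hσ2']
    exact (H.fl_eq_one _).1 h1
  have hvv : v * v ≠ 1 := by
    intro h
    obtain ⟨w, hw, hne⟩ := hc1
    exact hne (H.inner_of_invol ha hU hv h w hw)
  obtain ⟨σ, y, hσ1, hσ2, hy, hy0, hact⟩ := H.coords (hU hv) hc1 hc2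
  obtain ⟨r1, hr1, w1, hw1, hrw⟩ := H.cent (T.mul_mem (hU hv) (hU hv)) hc2
  obtain ⟨p1, hp1⟩ := mem_VV.1 hw1
  set al := ent y 0 0 with hal
  set b := ent y 0 1 with hb
  have hd : ent y 1 1 = al⁻¹ := by
    have := det_eq y
    rw [hy0, mul_zero, sub_zero] at this
    exact eq_inv_of_mul_eq_one_right this
  have ha0 : al ≠ 0 := ent_ne y hy0
  have hyy : y * fieldAut σ y = up p1 := by
    have h3 : Acts π (v * v) (y * fieldAut σ y) (σ * σ) := hy.mul hy
    have h4 : Acts π (v * v) (1 * fieldAut 1 (up p1)) (1 * 1) := by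
      rw [hrw, ← hp1]
      exact (acts_of_centralizes H.P hr1.2).mul (acts_pi (up p1))
    have h5 := (h3.unique H.P h4).1
    rw [h5, one_mul, fieldAut_one_apply]
  have m00 : al * σ al = 1 := by
    have := congrArg (fun w => ent w 0 0) hyy
    simp only [ent_mul, fieldAut_ent, hy0, map_zero, mul_zero, add_zero, up_00] at this
    exact this
  have hσa : σ al = al⁻¹ := eq_inv_of_mul_eq_one_right m00
  have m01 : al * σ b + b * al = p1 := by
    have := congrArg (fun w => ent w 0 1) hyy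
    simp only [ent_mul, fieldAut_ent, hd, map_inv₀, up_01] at this
    rw [← hal, ← hb, hσa, inv_inv] at this
    exact this
  have hc : al ^ 2 * σ (al ^ 2) = 1 := by
    rw [map_pow, ← mul_pow, m00, one_pow]
  have hc0 : al ^ 2 ≠ 0 := pow_ne_zero 2 ha0
  -- `VV ≤ M^a`
  obtain ⟨m, hm⟩ := exists_pow_of_mem (isPGroup_cj H.R2 a) (mul_mem hv hv)
  have hVM : ∀ w ∈ VV π, a⁻¹ * w * a ∈ normalizer (A : Set G) := fun w hw =>
    H.mem_of_comm' (mem_cj.1 (mul_mem hv hv)).2 hvv hm (hc2 w hw).symm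
  -- the set `B`
  have hB1 : ∀ x : F, π (up (x + al ^ 2 * σ x)) ∈ cj a (RR A T) := by
    intro x
    have h1 := H.comm_mem_of (mem_cj.1 hv).2 (hVM _ (up_mem_VV x))
    have h2 : π (up x) * v * (π (up x))⁻¹ * v⁻¹ = π (up (x + al ^ 2 * σ x)) := by
      have h3 : π (up x) * v * (π (up x))⁻¹ * v⁻¹ = π (up x) * (v * π (up x) * v⁻¹)⁻¹ := by group
      rw [h3, hact, ← map_inv, up_inv, ← map_mul, up_mul, CharTwo.neg_eq]
    rw [h2] at h1
    exact H.mem_cj_of_mem hU (H.VT (up_mem_VV _)) h1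
  have hB2 : ∀ w : F, al ^ 2 * σ w = w → π (up w) ∈ cj a (RR A T) := by
    intro w hw
    obtain ⟨t, ht⟩ := H.exists_trace' hσ1 hσ2 hc hw
    rw [← ht]; exact hB1 t
  obtain ⟨k, hk0, hk⟩ := exists_fixed hσ1 hσ2 hc
  have hup : ∀ w : F, w ≠ 0 → orderOf (π (up w)) = 2 := by
    intro w hw
    apply orderOf_eq_two (VV_sq _ (up_mem_VV w))
    intro h
    apply hw
    apply up_inj (F := F)
    apply H.P.inj
    rw [h, up_zero, map_one]
  have hh : ∀ (d : F) (hd0 : d ≠ 0), σ d = d → a⁻¹ * π (dg d hd0) * a ∈ normalizer (A : Set G) := by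
    intro d hd0 hσd
    apply H.tight.tight _ (a⁻¹ * π (up k) * a) (mem_cj.1 (hB2 k hk)).2
    · have := orderOf_conj a⁻¹ (π (up k))
      rw [inv_inv] at this
      rw [this, hup k hk0]
    · have h1 : a⁻¹ * π (dg d hd0) * a * (a⁻¹ * π (up k) * a) * (a⁻¹ * π (dg d hd0) * a)⁻¹ =
          a⁻¹ * (π (dg d hd0) * π (up k) * (π (dg d hd0))⁻¹) * a := by group
      rw [h1, dg_conj]
      apply (mem_cj.1 (hB2 _ _)).2
      rw [map_mul, map_pow, hσd]
      linear_combination d ^ 2 * hk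
  have hBmul : ∀ (d : F) (_ : d ≠ 0), σ d = d → ∀ x, π (up x) ∈ cj a (RR A T) →
      π (up (d ^ 2 * x)) ∈ cj a (RR A T) := by
    intro d hd0 hσd x hx
    rw [← dg_conj d hd0]
    apply H.mem_cj_of_mem hU
    · rw [dg_conj]; exact H.VT (up_mem_VV _)
    · have h1 := H.tight.norm _ (hh d hd0 hσd) _ (mem_cj.1 hx).2
      have h2 : a⁻¹ * (π (dg d hd0) * π (up x) * (π (dg d hd0))⁻¹) * a =
          a⁻¹ * π (dg d hd0) * a * (a⁻¹ * π (up x) * a) * (a⁻¹ * π (dg d hd0) * a)⁻¹ := by group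
      rw [h2]; exact h1
  have hBsc : ∀ e : F, σ e = e → ∀ x, π (up x) ∈ cj a (RR A T) → π (up (e * x)) ∈ cj a (RR A T) := by
    intro e he x hx
    by_cases he0 : e = 0
    · rw [he0, zero_mul, up_zero, map_one]; exact one_mem _
    obtain ⟨s, hs⟩ := exists_sqrt e
    have hs0 : s ≠ 0 := by
      rintro rfl
      rw [mul_zero] at hs
      exact he0 hs.symm
    have hσs : σ s = s := by
      have h1 : (σ s - s) * (σ s - s) = 0 := by
        have h2 : σ s * σ s = s * s := by rw [← map_mul, hs, he]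
        linear_combination h2 + (s * s - σ s * s) * e2
      exact sub_eq_zero.1 (mul_self_eq_zero.1 h1)
    have := hBmul s hs0 hσs x hx
    rwa [pow_two, hs] at this
  have hBadd : ∀ x z : F, π (up x) ∈ cj a (RR A T) → π (up z) ∈ cj a (RR A T) →
      π (up (x + z)) ∈ cj a (RR A T) := by
    intro x z hx hz
    rw [← up_mul, map_mul]; exact mul_mem hx hz
  -- an element of the fixed field
  obtain ⟨d, hσd, hd0, hd1⟩ : ∃ d : F, σ d = d ∧ d ≠ 0 ∧ d + 1 ≠ 0 := by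
    by_contra h
    push Not at h
    have h1 : ∀ x : {x : F // σ x = x}, (x : F) = 0 ∨ (x : F) = 1 := by
      intro x
      by_cases hx : (x : F) = 0
      · exact Or.inl hx
      · right
        have := h x x.2 hx
        linear_combination this - e2
    have h2 : Nat.card {x : F // σ x = x} ≤ 2 := by
      classical
      have h3 : Function.Injective (fun x : {x : F // σ x = x} => decide ((x : F) = 0)) := by
        intro x z hxz
        have h4 : ((x : F) = 0) ↔ ((z : F) = 0) := by simpa using hxz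
        apply Subtype.ext
        rcases h1 x with hx | hx
        · rw [hx, h4.1 hx]
        · rcases h1 z with hz | hz
          · exact absurd (h4.2 hz) (by rw [hx]; exact one_ne_zero)
          · rw [hx, hz]
      have := Nat.card_le_card_of_injective _ h3
      rwa [Nat.card_eq_fintype_card (α := Bool), Fintype.card_bool] at this
    have h3 := card_fix hσ2 hσ1
    have h4 := H.q8
    have h5 := Nat.mul_le_mul h2 h2
    omega
  -- `ab ∈ B`
  have hBab : π (up (al * b)) ∈ cj a (RR A T) := by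
    have h1 : π (up (al * b * (1 + d ^ 2))) ∈ cj a (RR A T) := by
      have h2 := H.comm_mem_of (mem_cj.1 hv).2 (hh d hd0 hσd)
      have h3 : v * π (dg d hd0) * v⁻¹ = π (up (al * b * (1 + d ^ 2))) * π (dg d hd0) := by
        rw [hy, ← map_mul]
        congr 1
        rw [mul_inv_eq_iff_eq_mul]
        refine ext_ent ?_ ?_ ?_ ?_ <;>
          simp only [ent_mul, fieldAut_ent, up_00, up_01, up_10, up_11, dg_00, dg_01, dg_10, dg_11, hy0, hd,
            hσd, map_zero, map_inv₀]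
        · ring
        · rw [← hal, ← hb]
          field_simp
          linear_combination -(al * b * d ^ 2) * e2
        · ring
        · ring
      have h4 : π (dg d hd0) * v * (π (dg d hd0))⁻¹ * v⁻¹ = π (up (al * b * (1 + d ^ 2))) := by
        have h5 : π (dg d hd0) * v * (π (dg d hd0))⁻¹ * v⁻¹ =
            π (dg d hd0) * (v * π (dg d hd0) * v⁻¹)⁻¹ := by group
        rw [h5, h3, mul_inv_rev, ← mul_assoc, mul_inv_cancel, one_mul, ← map_inv, up_inv, CharTwo.neg_eq]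
      rw [h4] at h2
      exact H.mem_cj_of_mem hU (H.VT (up_mem_VV _)) h2
    have h6 : (1 + d ^ 2 : F) = (d + 1) ^ 2 := by linear_combination -d * e2
    have h7 : (1 + d ^ 2 : F) ≠ 0 := by rw [h6]; exact pow_ne_zero 2 hd1
    have h8 := hBsc (1 + d ^ 2)⁻¹ (by rw [map_inv₀, map_add, map_one, map_pow, hσd]) _ h1
    have h9 : (1 + d ^ 2)⁻¹ * (al * b * (1 + d ^ 2)) = al * b := by field_simp
    rwa [h9] at h8
  -- `p1 ≠ 0`
  have hp10 : p1 ≠ 0 := by
    intro h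
    apply hvv
    apply H.eq_one_of_RR ha (mul_mem hv hv)
    rw [hrw, ← hp1, h, up_zero, map_one, mul_one]
    exact hr1
  have hdel : al * b + al ^ 2 * σ (al * b) = p1 := by
    rw [map_mul, hσa]
    field_simp
    linear_combination m01
  have hfix : ∀ x : F, al ^ 2 * σ (x + al ^ 2 * σ x) = x + al ^ 2 * σ x := by
    intro x
    rw [map_add, map_mul, invol_apply hσ2]
    linear_combination x * hc
  have hBall : ∀ x : F, π (up x) ∈ cj a (RR A T) := by
    intro x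
    obtain ⟨be, hbe⟩ : ∃ be, be = (x + al ^ 2 * σ x) / p1 := ⟨_, rfl⟩
    have hp1σ : al ^ 2 * σ p1 = p1 := by rw [← hdel]; exact hfix _
    have hσp : σ p1 ≠ 0 := fun h => hp10 (by rwa [map_eq_zero] at h)
    have hbeσ : σ be = be := by
      rw [hbe, map_div₀]
      have h1 := hfix x
      rw [div_eq_div_iff hσp hp10]
      apply mul_left_cancel₀ hc0
      linear_combination p1 * h1 - (x + al ^ 2 * σ x) * hp1σ
    have h1 : π (up (x + be * (al * b))) ∈ cj a (RR A T) := by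
      apply hB2
      rw [map_add, map_mul, hbeσ]
      have h2 : be * p1 = x + al ^ 2 * σ x := by rw [hbe]; field_simp
      linear_combination be * hdel - h2 + (be * p1 - x - be * (al * b)) * e2
    have h2 := hBadd _ _ h1 (hBsc be hbeσ _ hBab)
    have h3 : x + be * (al * b) + be * (al * b) = x := by linear_combination be * (al * b) * e2
    rwa [h3] at h2
  -- the final contradiction
  have hr11 : r1 = 1 := by
    apply H.eq_one_of_RR ha _ hr1
    have : r1 = v * v * (π (up p1))⁻¹ := by rw [hrw, ← hp1]; group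
    rw [this]
    exact mul_mem (mul_mem hv hv) (inv_mem (hBall p1))
  have hvp : v * v = π (up p1) := by rw [hrw, hr11, one_mul, hp1]
  have hp1σ : al ^ 2 * σ p1 = p1 := by rw [← hdel]; exact hfix _
  obtain ⟨t, ht⟩ := H.exists_trace' hσ1 hσ2 hc hp1σ
  have hv' : π (up t) * v ∈ cj a (RR A T) := mul_mem (hBall t) hv
  have hv'2 : π (up t) * v * (π (up t) * v) = 1 := by
    calc π (up t) * v * (π (up t) * v) = π (up t) * (v * π (up t) * v⁻¹) * (v * v) := by group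
      _ = π (up (t + al ^ 2 * σ t + p1)) := by
        rw [hact, hvp, ← map_mul, ← map_mul, up_mul, up_mul]
      _ = 1 := by rw [ht, CharTwo.add_self_eq_zero, up_zero, map_one]
  have hin := H.inner_of_invol ha hU hv' hv'2
  obtain ⟨w, hw, hne⟩ := hc1
  apply hne
  have h1 := hin w hw
  obtain ⟨e, rfl⟩ := mem_VV.1 hw
  have h2 : π (up t) * π (up e) = π (up e) * π (up t) := by
    rw [← map_mul, ← map_mul, up_mul, up_mul, add_comm]
  calc v * π (up e) = (π (up t))⁻¹ * (π (up t) * v * π (up e)) := by group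
    _ = (π (up t))⁻¹ * (π (up e) * π (up t)) * v := by rw [h1]; group
    _ = π (up e) * v := by rw [← h2]; group

/-- the elements of a full pair are `r u(b)` -/
theorem exists_eq {a v : G} (ha : a ∉ normalizer (A : Set G)) (hU : cj a (RR A T) ≤ T)
    (hv : v ∈ cj a (RR A T)) : ∃ r ∈ RR A T, ∃ b : F, v = r * π (up b) := by
  obtain ⟨r, hr, w, hw, h⟩ := H.cent (hU hv) (H.inner ha hU hv)
  obtain ⟨b, rfl⟩ := mem_VV.1 hw
  exact ⟨r, hr, b, h⟩

/-- if there is a full pair then the Sylow 2-subgroup of `C(A)` is elementary abelian -/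
theorem R_sq {a : G} (ha : a ∉ normalizer (A : Set G)) (hU : cj a (RR A T) ≤ T) :
    ∀ x ∈ RR A T, x * x = 1 := by
  have h1 : ∀ v ∈ cj a (RR A T), v * v = 1 := by
    intro v hv
    obtain ⟨r, hr, b, rfl⟩ := H.exists_eq ha hU hv
    have h2 : r * π (up b) = π (up b) * r := mem_cent.1 hr.2 _ (H.P.mem _)
    apply H.eq_one_of_RR ha (mul_mem hv hv)
    have h3 : r * π (up b) * (r * π (up b)) = r * r * (π (up b) * π (up b)) := by
      calc r * π (up b) * (r * π (up b)) = r * (π (up b) * r) * π (up b) := by group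
        _ = r * r * (π (up b) * π (up b)) := by rw [← h2]; group
    rw [h3, VV_sq _ (up_mem_VV b), mul_one]
    exact mul_mem hr hr
  intro x hx
  have h2 := h1 _ (mem_cj_mul (g := a) hx)
  have h3 : a * x * a⁻¹ * (a * x * a⁻¹) = a * (x * x) * a⁻¹ := by group
  rw [h3] at h2
  have h4 := mul_inv_eq_one.1 h2
  exact mul_eq_left.1 h4

end Fr

end Cfsg.Agent.OddHalf.D4.Rk2

end

-- merged: Cfsg.Agent.OddHalf.D4.Rk2.Memb
section

/-!
# D4, `K = L₂(q)`: the members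

`VQ = R × R₀` (`R = RR A T`, `R₀ = VV π`), `LL` = the conjugates of `R` contained in `VQ`.
-/

set_option autoImplicit false
set_option linter.unusedSectionVars false

namespace Cfsg.Agent.OddHalf.D4.Rk2

open Subgroup Cfsg.Agent.StdL2.Frame Cfsg.Agent.StdL2.Field
open Cfsg.Agent.StdL2.FrameFT (VV mem_VV up_mem_VV VV_le VV_sq card_VV le_VV sem ent_ne cent_VV cent_of_fld
  exists_fixed ent_of_conj conj_up eq_up dg_conj)
open Cfsg.Agent.Lib.SL2Mat Cfsg.Agent.Lib.AutSL2 Cfsg.Agent.StdRank2.OutField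
open Cfsg.Agent.StdL2.FieldStart (exists_normalizer_gt card_le_two_mul)
open Cfsg.Agent.OddHalf.D4.CommConj (cj mem_cj cj_mul card_cj cj_eq_of_mem_normalizer mem_normalizer_of_cj_eq
  mem_cj_mul Tight)
open Cfsg.Agent.OddHalf.D4.Basic (IsSyl exists_isSyl orderOf_conj)

local notation "SL2" => Matrix.SpecialLinearGroup (Fin 2)

universe u

variable {F : Type*} [Field F] {G : Type u} [Group G] {A T : Subgroup G} {π : SL2 F →* G}

/-- the setup with a full pair -/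
structure Pr (A T : Subgroup G) (π : SL2 F →* G) : Prop extends Fr A T π where
  full : ∃ a, a ∉ normalizer (A : Set G) ∧ cj a (RR A T) ≤ T

/-- `R × R₀` -/
def VQ (A T : Subgroup G) (π : SL2 F →* G) : Subgroup G := RR A T ⊔ VV π

/-- the conjugates of `R` in `VQ` -/
def LL (A T : Subgroup G) (π : SL2 F →* G) : Set (Subgroup G) :=
  {Y | Y ≤ VQ A T π ∧ ∃ g, Y = cj g (RR A T)}

theorem cj_mono {X Y : Subgroup G} (g : G) (h : X ≤ Y) : cj g X ≤ cj g Y := map_mono h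

theorem cj_one (X : Subgroup G) : cj 1 X = X := by
  ext x; rw [mem_cj]; simp

theorem cj_inv_cj (g : G) (X : Subgroup G) : cj g⁻¹ (cj g X) = X := by
  rw [← cj_mul, inv_mul_cancel, cj_one]

theorem cj_cj_inv (g : G) (X : Subgroup G) : cj g (cj g⁻¹ X) = X := by
  rw [← cj_mul, mul_inv_cancel, cj_one]

theorem cj_le_iff {X Y : Subgroup G} {g : G} : cj g X ≤ Y ↔ X ≤ cj g⁻¹ Y := by
  constructor
  · intro h
    have := cj_mono g⁻¹ h
    rwa [cj_inv_cj] at this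
  · intro h
    have := cj_mono g h
    rwa [cj_cj_inv] at this

theorem cj_inj {X Y : Subgroup G} {g : G} (h : cj g X = cj g Y) : X = Y := by
  rw [← cj_inv_cj g X, h, cj_inv_cj]

namespace Pr

variable [Finite F] [CharP F 2] [Finite G] (H : Pr A T π)
include H

theorem rsq {x : G} (hx : x ∈ RR A T) : x * x = 1 := by
  obtain ⟨a, ha, hU⟩ := H.full
  exact H.toFr.R_sq ha hU x hx

theorem rcomm {x y : G} (hx : x ∈ RR A T) (hy : y ∈ RR A T) : x * y = y * x := by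
  have h1 := H.rsq (mul_mem hx hy)
  have h2 : x⁻¹ = x := inv_eq_of_mul_eq_one_left (H.rsq hx)
  have h3 : y⁻¹ = y := inv_eq_of_mul_eq_one_left (H.rsq hy)
  have h4 : (x * y)⁻¹ = x * y := inv_eq_of_mul_eq_one_left h1
  rw [mul_inv_rev, h2, h3] at h4
  exact h4.symm

theorem ru {r : G} (hr : r ∈ RR A T) (b : F) : r * π (up b) = π (up b) * r :=
  mem_cent.1 hr.2 _ (H.P.mem _)

theorem uu (b c : F) : π (up b) * π (up c) = π (up c) * π (up b) := by
  rw [← map_mul, ← map_mul, up_mul, up_mul, add_comm]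

theorem uadd (b c : F) : π (up b) * π (up c) = π (up (b + c)) := by
  rw [← map_mul, up_mul]

theorem uinj {b c : F} (h : π (up b) = π (up c)) : b = c := up_inj (H.P.inj h)

theorem u0 : π (up (0 : F)) = 1 := by rw [up_zero, map_one]

theorem mem_VQ {x : G} : x ∈ VQ A T π ↔ ∃ r ∈ RR A T, ∃ b : F, x = r * π (up b) := by
  have hN : RR A T ≤ normalizer ((VV π : Subgroup G) : Set G) := by
    intro r hr
    apply mem_normalizer_of_cj_eq
    have h1 : cj r (VV π) ≤ VV π := by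
      rintro _ ⟨v, hv, rfl⟩
      obtain ⟨b, rfl⟩ := mem_VV.1 hv
      show r * π (up b) * r⁻¹ ∈ VV π
      rw [H.ru hr, mul_inv_cancel_right]
      exact up_mem_VV b
    exact eq_of_le_of_card_ge h1 (card_cj _ _).ge
  constructor
  · intro hx
    have h1 : x ∈ ((RR A T ⊔ VV π : Subgroup G) : Set G) := hx
    rw [coe_mul_of_left_le_normalizer_right _ _ hN] at h1
    obtain ⟨r, hr, v, hv, rfl⟩ := h1
    obtain ⟨b, rfl⟩ := mem_VV.1 hv
    exact ⟨r, hr, b, rfl⟩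
  · rintro ⟨r, hr, b, rfl⟩
    exact mul_mem (mem_sup_left hr) (mem_sup_right (up_mem_VV b))

theorem RVQ : RR A T ≤ VQ A T π := le_sup_left

theorem VVQ : VV π ≤ VQ A T π := le_sup_right

theorem uVQ (b : F) : π (up b) ∈ VQ A T π := H.VVQ (up_mem_VV b)

theorem VQT : VQ A T π ≤ T := sup_le H.toFr.RRT H.VT

theorem ru_mem {r : G} (hr : r ∈ RR A T) (b : F) : r * π (up b) ∈ VQ A T π := H.mem_VQ.2 ⟨r, hr, b, rfl⟩

theorem uniq {r r' : G} (hr : r ∈ RR A T) (hr' : r' ∈ RR A T) {b b' : F}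
    (h : r * π (up b) = r' * π (up b')) : r = r' ∧ b = b' := by
  have h1 : r'⁻¹ * r = π (up (b' + -b)) := by
    rw [← up_mul, map_mul, ← up_inv, map_inv, eq_mul_inv_iff_mul_eq, mul_assoc, h, inv_mul_cancel_left]
  have h2 : r'⁻¹ * r = 1 := by
    apply eq_one_of_cent H.P
    · rw [h1]; exact H.P.mem _
    · exact mul_mem (inv_mem hr'.2) hr.2
  have h3 : r = r' := (inv_mul_eq_one.1 h2).symm
  refine ⟨h3, ?_⟩
  rw [h3] at h
  exact H.uinj (mul_left_cancel h)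

theorem mem_R_of_cent {x : G} (hx : x ∈ VQ A T π) (hxC : x ∈ centralizer (A : Set G)) : x ∈ RR A T :=
  ⟨H.VQT hx, hxC⟩

theorem mem_VV_of_A {x : G} (hx : x ∈ VQ A T π) (hxA : x ∈ A) : x ∈ VV π :=
  H.toFr.mem_VV_of_mem_T (H.VQT hx) hxA

theorem vsq {x : G} (hx : x ∈ VQ A T π) : x * x = 1 := by
  obtain ⟨r, hr, b, rfl⟩ := H.mem_VQ.1 hx
  calc r * π (up b) * (r * π (up b)) = r * (π (up b) * r) * π (up b) := by group
    _ = r * r * (π (up b) * π (up b)) := by rw [← H.ru hr]; group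
    _ = 1 := by rw [H.rsq hr, VV_sq _ (up_mem_VV b), one_mul]

theorem vcomm {x y : G} (hx : x ∈ VQ A T π) (hy : y ∈ VQ A T π) : x * y = y * x := by
  have h2 : x⁻¹ = x := inv_eq_of_mul_eq_one_left (H.vsq hx)
  have h3 : y⁻¹ = y := inv_eq_of_mul_eq_one_left (H.vsq hy)
  have h4 : (x * y)⁻¹ = x * y := inv_eq_of_mul_eq_one_left (H.vsq (mul_mem hx hy))
  rw [mul_inv_rev, h2, h3] at h4
  exact h4.symm

theorem V2 : IsPGroup 2 (VQ A T π) := H.T2.to_le H.VQT

theorem card_VQ : Nat.card (VQ A T π) = Nat.card (RR A T) * Nat.card F := by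
  rw [← Nat.card_prod]
  refine (Nat.card_congr (Equiv.ofBijective
    (fun x : RR A T × F => (⟨x.1 * π (up x.2), H.ru_mem x.1.2 _⟩ : VQ A T π)) ⟨?_, ?_⟩)).symm
  · rintro ⟨r, b⟩ ⟨r', b'⟩ h
    have h1 := H.uniq r.2 r'.2 (congrArg Subtype.val h)
    exact Prod.ext (Subtype.ext h1.1) h1.2
  · rintro ⟨x, hx⟩
    obtain ⟨r, hr, b, rfl⟩ := H.mem_VQ.1 hx
    exact ⟨⟨⟨r, hr⟩, b⟩, rfl⟩

theorem card_R : 4 ≤ Nat.card (RR A T) := by
  classical
  obtain ⟨r, hr, s, hs, hr2, hs2, hrs, hne⟩ := H.two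
  have hr1 : r ≠ 1 := by
    rintro rfl; rw [orderOf_one] at hr2; omega
  have hs1 : s ≠ 1 := by
    rintro rfl; rw [orderOf_one] at hs2; omega
  have : Fact (Nat.Prime 2) := ⟨Nat.prime_two⟩
  obtain ⟨n, hn⟩ := IsPGroup.iff_card.1 H.toFr.R2
  have := Fintype.ofFinite (RR A T)
  have h3 : ({1, ⟨r, hr⟩, ⟨s, hs⟩} : Finset (RR A T)).card = 3 := by
    rw [Finset.card_eq_three]
    refine ⟨1, ⟨r, hr⟩, ⟨s, hs⟩, ?_, ?_, ?_, rfl⟩
    · intro h; exact hr1 (congrArg Subtype.val h).symm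
    · intro h; exact hs1 (congrArg Subtype.val h).symm
    · intro h; exact hne (congrArg Subtype.val h)
  have h4 := Finset.card_le_univ ({1, ⟨r, hr⟩, ⟨s, hs⟩} : Finset (RR A T))
  rw [h3, ← Nat.card_eq_fintype_card, hn] at h4
  rw [hn]
  have h5 : 2 ≤ n := by
    by_contra h
    have h6 : n ≤ 1 := by omega
    have := Nat.pow_le_pow_right (n := 2) (by norm_num) h6
    omega
  exact le_trans (by norm_num) (Nat.pow_le_pow_right (n := 2) (by norm_num) h5)

theorem exists_r : ∃ r ∈ RR A T, orderOf r = 2 := by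
  obtain ⟨r, hr, s, hs, hr2, -⟩ := H.two
  exact ⟨r, hr, hr2⟩

/-- the number of fixed points of a semilinear involution -/
theorem card_fixc {σ : F ≃+* F} (hσ1 : σ ≠ 1) (hσ2 : σ * σ = 1) {c : F} (hc : c * σ c = 1) :
    Nat.card {b : F // c * σ b = b} * Nat.card {b : F // c * σ b = b} = Nat.card F := by
  obtain ⟨k, hk0, hk⟩ := exists_fixed hσ1 hσ2 hc
  have hc0 : c ≠ 0 := by
    rintro rfl
    rw [zero_mul] at hc
    exact zero_ne_one hc
  have h1 : Nat.card {b : F // c * σ b = b} = Nat.card {b : F // σ b = b} := by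
    refine (Nat.card_congr (Equiv.ofBijective (fun b : {b : F // σ b = b} =>
      (⟨k * b, by rw [map_mul, b.2, ← mul_assoc, hk]⟩ : {b : F // c * σ b = b})) ⟨?_, ?_⟩)).symm
    · intro a b h
      exact Subtype.ext (mul_left_cancel₀ hk0 (congrArg Subtype.val h))
    · rintro ⟨b, hb⟩
      have h4 : σ (k⁻¹ * b) = k⁻¹ * b := by
        rw [map_mul, map_inv₀]
        have h5 : σ k ≠ 0 := fun h => hk0 (by rwa [map_eq_zero] at h)
        field_simp
        apply mul_left_cancel₀ hc0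
        linear_combination k * hb - b * hk
      refine ⟨⟨k⁻¹ * b, h4⟩, Subtype.ext ?_⟩
      show k * (k⁻¹ * b) = b
      rw [mul_inv_cancel_left₀ hk0]
  rw [h1]
  exact card_fix hσ2 hσ1

/-- elements of `T` centralizing the root group -/
theorem mem_VQ_of_cent {x : G} (hx : x ∈ T) (hc : ∀ v ∈ VV π, x * v = v * x) : x ∈ VQ A T π := by
  obtain ⟨r, hr, w, hw, h⟩ := H.toFr.cent hx hc
  obtain ⟨b, rfl⟩ := mem_VV.1 hw
  exact H.mem_VQ.2 ⟨r, hr, b, h⟩

theorem cent_of_mem_VQ {x : G} (hx : x ∈ VQ A T π) : ∀ v ∈ VV π, x * v = v * x :=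
  fun _ hv => H.vcomm hx (H.VVQ hv)

/-- `x, y ∈ T` of field type with squares in `VQ`: `x⁻¹ y ∈ VQ` -/
theorem inv_mul_mem_VQ {x y : G} (hx : x ∈ T) (hy : y ∈ T) (hx1 : x ∉ VQ A T π) (hy1 : y ∉ VQ A T π)
    (hx2 : x * x ∈ VQ A T π) (hy2 : y * y ∈ VQ A T π) : x⁻¹ * y ∈ VQ A T π := by
  have e1 : H.toFr.fl ⟨x, hx⟩ = H.toFr.fl ⟨y, hy⟩ := by
    apply unique_invol
    · rw [← map_mul]
      exact (H.toFr.fl_eq_one _).2 (H.cent_of_mem_VQ hx2)
    · rw [← map_mul]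
      exact (H.toFr.fl_eq_one _).2 (H.cent_of_mem_VQ hy2)
    · intro h
      exact hx1 (H.mem_VQ_of_cent hx ((H.toFr.fl_eq_one _).1 h))
    · intro h
      exact hy1 (H.mem_VQ_of_cent hy ((H.toFr.fl_eq_one _).1 h))
  have e2 : H.toFr.fl (⟨x, hx⟩⁻¹ * ⟨y, hy⟩) = 1 := by
    rw [map_mul, map_inv, e1, inv_mul_cancel]
  exact H.mem_VQ_of_cent (T.mul_mem (T.inv_mem hx) hy) ((H.toFr.fl_eq_one _).1 e2)

/-- the semilinear action of an involution of `T` outside `VQ` -/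
theorem invol_act {x : G} (hx : x ∈ T) (hx1 : x ∉ VQ A T π) (hx2 : x * x ∈ VQ A T π) :
    ∃ (σ : F ≃+* F) (c : F), σ ≠ 1 ∧ σ * σ = 1 ∧ c * σ c = 1 ∧
      ∀ b, x * π (up b) * x⁻¹ = π (up (c * σ b)) := by
  have h1 : ∃ w ∈ VV π, x * w ≠ w * x := by
    by_contra h
    push Not at h
    exact hx1 (H.mem_VQ_of_cent hx h)
  obtain ⟨σ, y, hσ1, hσ2, -, -, hact⟩ := H.toFr.coords hx h1 (H.cent_of_mem_VQ hx2)
  refine ⟨σ, _, hσ1, hσ2, ?_, hact⟩
  have h2 : x * (x * π (up 1) * x⁻¹) * x⁻¹ = π (up 1) := by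
    have h3 : x * (x * π (up 1) * x⁻¹) * x⁻¹ = (x * x) * π (up 1) * (x * x)⁻¹ := by group
    rw [h3, H.cent_of_mem_VQ hx2 _ (up_mem_VV 1), mul_inv_cancel_right]
  rw [hact, hact, map_one, mul_one] at h2
  exact H.uinj h2

/-- an elementary abelian subgroup of `T` not in `VQ` is small -/
theorem elem_card {X : Subgroup G} (hX : X ≤ T) (hX2 : ∀ x ∈ X, x * x = 1) (hn : ¬ X ≤ VQ A T π) :
    ∃ f : ℕ, f * f = Nat.card F ∧ Nat.card X ≤ 2 * (Nat.card (RR A T) * f) := by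
  obtain ⟨x, hxX, hxV⟩ := SetLike.not_le_iff_exists.1 hn
  have hXc : ∀ y ∈ X, ∀ z ∈ X, y * z = z * y := by
    intro y hy z hz
    have h2 : y⁻¹ = y := inv_eq_of_mul_eq_one_left (hX2 y hy)
    have h3 : z⁻¹ = z := inv_eq_of_mul_eq_one_left (hX2 z hz)
    have h4 : (y * z)⁻¹ = y * z := inv_eq_of_mul_eq_one_left (hX2 _ (mul_mem hy hz))
    rw [mul_inv_rev, h2, h3] at h4
    exact h4.symm
  obtain ⟨σ, c, hσ1, hσ2, hc, hact⟩ := H.invol_act (hX hxX) hxV (by rw [hX2 x hxX]; exact one_mem _)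
  refine ⟨Nat.card {b : F // c * σ b = b}, H.card_fixc hσ1 hσ2 hc, ?_⟩
  have h1 := card_le_two_mul X (VQ A T π) (by
    intro y hy z hz hy1 hz1
    exact H.inv_mul_mem_VQ (hX hy) (hX hz) hy1 hz1 (by rw [hX2 y hy]; exact one_mem _)
      (by rw [hX2 z hz]; exact one_mem _))
  refine h1.trans (Nat.mul_le_mul_left 2 ?_)
  rw [← Nat.card_prod]
  have key : ∀ z : (X ⊓ VQ A T π : Subgroup G), ∃ r ∈ RR A T, ∃ b : F, c * σ b = b ∧ (z : G) = r * π (up b) := by
    rintro ⟨z, hzX, hzV⟩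
    obtain ⟨r, hr, b, rfl⟩ := H.mem_VQ.1 hzV
    refine ⟨r, hr, b, ?_, rfl⟩
    have h2 : x * (r * π (up b)) * x⁻¹ = r * π (up b) := by
      rw [hXc _ hxX _ hzX, mul_inv_cancel_right]
    have h3 : x * (r * π (up b)) * x⁻¹ = (x * r * x⁻¹) * π (up (c * σ b)) := by
      rw [← hact]; group
    rw [h3] at h2
    have h4 : x * r * x⁻¹ ∈ RR A T :=
      ⟨T.mul_mem (T.mul_mem (hX hxX) hr.1) (T.inv_mem (hX hxX)), H.tight.norm _ (H.toFr.nT (hX hxX)) _ hr.2⟩
    exact (H.uniq h4 hr h2).2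
  choose r hr b hb hz using key
  refine Nat.card_le_card_of_injective
    (fun z => ((⟨r z, hr z⟩, ⟨b z, hb z⟩) : RR A T × {b : F // c * σ b = b})) ?_
  intro z z' h
  apply Subtype.ext
  rw [hz z, hz z']
  have h5 : r z = r z' := congrArg (fun w => (w.1 : G)) h
  have h6 : b z = b z' := congrArg (fun w => (w.2 : F)) h
  rw [h5, h6]

/-- `VQ` is the only elementary abelian subgroup of its order in `T` -/
theorem eq_VQ {X : Subgroup G} (hX : X ≤ T) (hX2 : ∀ x ∈ X, x * x = 1)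
    (hc : Nat.card (VQ A T π) ≤ Nat.card X) : X = VQ A T π := by
  by_cases hn : X ≤ VQ A T π
  · exact eq_of_le_of_card_ge hn hc
  exfalso
  obtain ⟨f, hf, hle⟩ := H.elem_card hX hX2 hn
  rw [H.card_VQ, ← hf] at hc
  have h4 := H.card_R
  have h8 := H.q8
  rw [← hf] at h8
  have h1 : Nat.card (RR A T) * (f * f) ≤ Nat.card (RR A T) * (2 * f) := by
    calc Nat.card (RR A T) * (f * f) ≤ Nat.card X := hc
      _ ≤ 2 * (Nat.card (RR A T) * f) := hle
      _ = Nat.card (RR A T) * (2 * f) := by ring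
  have h2 : f * f ≤ 2 * f := Nat.le_of_mul_le_mul_left h1 (by omega)
  have h3 : 3 ≤ f := by
    by_contra h
    have : f ≤ 2 := by omega
    have := Nat.mul_le_mul this this
    omega
  nlinarith

/-! ### the members -/

theorem R_mem_LL : RR A T ∈ LL A T π := ⟨H.RVQ, 1, (cj_one _).symm⟩

theorem LL_card {Y : Subgroup G} (hY : Y ∈ LL A T π) : Nat.card Y = Nat.card (RR A T) := by
  obtain ⟨-, g, rfl⟩ := hY
  exact card_cj g _

theorem orderOf_mem_VQ {x : G} (hx : x ∈ VQ A T π) (hx1 : x ≠ 1) : orderOf x = 2 :=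
  orderOf_eq_two (H.vsq hx) hx1

/-- a 2-subgroup of `C^g` containing `R^g` equals `R^g` -/
theorem le_of_sup {g : G} {W : Subgroup G} (hW : W ≤ VQ A T π) (hWC : W ≤ cj g (centralizer (A : Set G)))
    (hg : cj g (RR A T) ≤ VQ A T π) : W ≤ cj g (RR A T) := by
  have h1 := isSyl_cj H.toFr.sylR g
  have h2 : VQ A T π ⊓ cj g (centralizer (A : Set G)) ≤ cj g (RR A T) :=
    h1.max _ (H.V2.to_le inf_le_left) (le_inf hg h1.le) inf_le_right
  exact (le_inf hW hWC).trans h2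

/-- two members with a common involution coincide -/
theorem LL_eq {Y Z : Subgroup G} (hY : Y ∈ LL A T π) (hZ : Z ∈ LL A T π) {y : G} (hyY : y ∈ Y) (hyZ : y ∈ Z)
    (hy1 : y ≠ 1) : Y = Z := by
  obtain ⟨hYV, g, rfl⟩ := hY
  obtain ⟨hZV, h, rfl⟩ := hZ
  have hy2 := H.orderOf_mem_VQ (hYV hyY) hy1
  have h1 : h⁻¹ * g ∈ normalizer (A : Set G) := by
    apply H.tight.tight _ (g⁻¹ * y * g) (mem_cj.1 hyY).2
    · have := orderOf_conj g⁻¹ y
      rw [inv_inv] at this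
      rw [this, hy2]
    · have e : h⁻¹ * g * (g⁻¹ * y * g) * (h⁻¹ * g)⁻¹ = h⁻¹ * y * h := by group
      rw [e]; exact (mem_cj.1 hyZ).2
  have h2 : cj g (RR A T) ≤ cj h (RR A T) := by
    apply H.le_of_sup hYV _ hZV
    intro x hx
    rw [mem_cj] at hx ⊢
    have h3 := H.tight.norm _ h1 _ hx.2
    have e : h⁻¹ * g * (g⁻¹ * x * g) * (h⁻¹ * g)⁻¹ = h⁻¹ * x * h := by group
    rwa [e] at h3
  exact eq_of_le_of_card_ge h2 (by rw [card_cj, card_cj])

theorem mem_M_of_cj {n : G} (h : cj n (RR A T) = RR A T) : n ∈ normalizer (A : Set G) := by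
  obtain ⟨r, hr, hr2⟩ := H.exists_r
  apply H.tight.tight n r hr.2 hr2
  have h1 : n * r * n⁻¹ ∈ cj n (RR A T) := mem_cj_mul hr
  rw [h] at h1
  exact h1.2

theorem cj_R_of_mem_M {n : G} (hn : n ∈ normalizer (VQ A T π : Set G)) (hM : n ∈ normalizer (A : Set G)) :
    cj n (RR A T) = RR A T := by
  have h1 : cj n (RR A T) ≤ RR A T := by
    rintro _ ⟨r, hr, rfl⟩
    apply H.mem_R_of_cent
    · exact (mem_normalizer_iff.1 hn r).1 (H.RVQ hr)
    · exact H.tight.norm _ hM _ hr.2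
  exact eq_of_le_of_card_ge h1 (by rw [card_cj])

theorem cj_VV_of_mem_M {n : G} (hn : n ∈ normalizer (VQ A T π : Set G)) (hM : n ∈ normalizer (A : Set G)) :
    cj n (VV π) = VV π := by
  have h1 : cj n (VV π) ≤ VV π := by
    rintro _ ⟨r, hr, rfl⟩
    apply H.mem_VV_of_A
    · exact (mem_normalizer_iff.1 hn r).1 (H.VVQ hr)
    · exact (mem_normalizer_iff.1 hM r).1 (VV_le H.P hr)
  exact eq_of_le_of_card_ge h1 (by rw [card_cj])

/-- `T ≤ N(VQ)` -/
theorem T_norm {t : G} (ht : t ∈ T) : t ∈ normalizer (VQ A T π : Set G) := by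
  apply mem_normalizer_of_cj_eq
  have h1 : cj t (VQ A T π) ≤ VQ A T π := by
    rintro _ ⟨x, hx, rfl⟩
    obtain ⟨r, hr, b, rfl⟩ := H.mem_VQ.1 hx
    show t * (r * π (up b)) * t⁻¹ ∈ VQ A T π
    have e : t * (r * π (up b)) * t⁻¹ = (t * r * t⁻¹) * (t * π (up b) * t⁻¹) := by group
    rw [e]
    refine mul_mem (H.RVQ ⟨T.mul_mem (T.mul_mem ht hr.1) (T.inv_mem ht), H.tight.norm _ (H.toFr.nT ht) _ hr.2⟩)
      (H.VVQ (H.toFr.Vn ht (up_mem_VV b)))
  exact eq_of_le_of_card_ge h1 (card_cj _ _).ge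

/-- the torus -/
theorem exists_tor (c : F) (hc : c ≠ 0) : ∃ h ∈ A, h ∈ normalizer (VQ A T π : Set G) ∧
    (∀ r ∈ RR A T, h * r = r * h) ∧ ∀ b, h * π (up b) * h⁻¹ = π (up (c * b)) := by
  obtain ⟨h, hA, hh⟩ := exists_torus H.P (Units.mk0 c hc)
  have hr : ∀ r ∈ RR A T, h * r = r * h := fun r hr => (mem_cent.1 hr.2 h hA).symm
  refine ⟨h, hA, ?_, hr, hh⟩
  apply mem_normalizer_of_cj_eq
  have h1 : cj h (VQ A T π) ≤ VQ A T π := by
    rintro _ ⟨x, hx, rfl⟩
    obtain ⟨r, hr', b, rfl⟩ := H.mem_VQ.1 hx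
    show h * (r * π (up b)) * h⁻¹ ∈ VQ A T π
    have e : h * (r * π (up b)) * h⁻¹ = (h * r * h⁻¹) * (h * π (up b) * h⁻¹) := by group
    rw [e, hr r hr', mul_inv_cancel_right, hh]
    exact H.ru_mem hr' _
  exact eq_of_le_of_card_ge h1 (card_cj _ _).ge

theorem cj_mem_LL {n : G} (hn : n ∈ normalizer (VQ A T π : Set G)) {Y : Subgroup G} (hY : Y ∈ LL A T π) :
    cj n Y ∈ LL A T π := by
  obtain ⟨hYV, g, rfl⟩ := hY
  refine ⟨?_, n * g, (cj_mul n g _).symm⟩
  have := cj_mono n hYV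
  rwa [cj_eq_of_mem_normalizer hn] at this

/-- **transitivity** of `N(VQ)` on the members -/
theorem exists_norm {Y : Subgroup G} (hY : Y ∈ LL A T π) :
    ∃ n ∈ normalizer (VQ A T π : Set G), cj n (RR A T) = Y := by
  obtain ⟨hYV, g, hg⟩ := id hY
  obtain ⟨r, hr, hr2⟩ := H.exists_r
  have hr1 : r ≠ 1 := by
    rintro rfl; rw [orderOf_one] at hr2; omega
  -- `V ≤ M^g`
  have h1 : cj g⁻¹ (VQ A T π) ≤ normalizer (A : Set G) := by
    rintro _ ⟨x, hx, rfl⟩
    show g⁻¹ * x * g⁻¹⁻¹ ∈ normalizer (A : Set G)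
    rw [inv_inv]
    have hy : g * r * g⁻¹ ∈ VQ A T π := by
      apply hYV; rw [hg]; exact mem_cj_mul hr
    apply H.toFr.mem_of_comm (x := g * r * g⁻¹)
    · have e : g⁻¹ * (g * r * g⁻¹) * g = r := by group
      rw [e]; exact hr.2
    · rw [orderOf_conj, hr2]
    · exact H.vcomm hx hy
  obtain ⟨m, hm, hmT⟩ := H.syl.conj_into (isPGroup_cj H.V2 g⁻¹) h1
  have h2 : cj (m * g⁻¹) (VQ A T π) = VQ A T π := by
    apply H.eq_VQ
    · rw [cj_mul]
      rintro _ ⟨x, hx, rfl⟩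
      exact hmT x hx
    · rintro _ ⟨x, hx, rfl⟩
      show (m * g⁻¹) * x * (m * g⁻¹)⁻¹ * ((m * g⁻¹) * x * (m * g⁻¹)⁻¹) = 1
      have e : (m * g⁻¹) * x * (m * g⁻¹)⁻¹ * ((m * g⁻¹) * x * (m * g⁻¹)⁻¹) =
          (m * g⁻¹) * (x * x) * (m * g⁻¹)⁻¹ := by group
      rw [e, H.vsq hx]; group
    · rw [card_cj]
  have hn := mem_normalizer_of_cj_eq h2
  refine ⟨(m * g⁻¹)⁻¹, inv_mem hn, ?_⟩
  have hW := H.cj_mem_LL (inv_mem hn) H.R_mem_LL
  have h3 : (m * g⁻¹)⁻¹ * r * (m * g⁻¹) ∈ cj (m * g⁻¹)⁻¹ (RR A T) := by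
    have := mem_cj_mul (g := (m * g⁻¹)⁻¹) hr
    rwa [inv_inv] at this
  -- both are Sylow subgroups of `C^g`
  have h4 : cj (m * g⁻¹)⁻¹ (RR A T) ≤ cj g (RR A T) := by
    apply H.le_of_sup hW.1 _ (hg ▸ hYV)
    intro x hx
    rw [mem_cj] at hx ⊢
    have h5 := H.tight.norm _ (inv_mem hm) _ hx.2
    have e : m⁻¹ * ((m * g⁻¹)⁻¹⁻¹ * x * (m * g⁻¹)⁻¹) * m⁻¹⁻¹ = g⁻¹ * x * g := by group
    rwa [e] at h5
  rw [hg]
  exact eq_of_le_of_card_ge h4 (by rw [card_cj, card_cj])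

/-- members meeting the root group nontrivially are contained in it -/
theorem le_VV_of_meet {Y : Subgroup G} (hY : Y ∈ LL A T π) {b0 : F} (hb0 : b0 ≠ 0) (hY0 : π (up b0) ∈ Y) :
    Y ≤ VV π := by
  intro y hy
  obtain ⟨r, hr, b, rfl⟩ := H.mem_VQ.1 (hY.1 hy)
  by_cases hr1 : r = 1
  · rw [hr1, one_mul]; exact up_mem_VV b
  exfalso
  have hYR : ∀ x ∈ Y, x ∈ RR A T → x = 1 := by
    intro x hx hxR
    by_contra hx1
    have h1 := H.LL_eq hY H.R_mem_LL hx hxR hx1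
    rw [h1] at hY0
    apply hb0
    apply H.uinj
    rw [H.u0]
    exact eq_one_of_cent H.P (H.P.mem _) hY0.2
  have hbY : π (up b) ∉ Y := by
    intro h
    apply hr1
    apply hYR r _ hr
    have e : r = r * π (up b) * (π (up b))⁻¹ := by group
    rw [e]
    exact mul_mem hy (inv_mem h)
  have hb : b ≠ 0 := by
    rintro rfl
    exact hbY (by rw [H.u0]; exact one_mem _)
  have hbb : b + b0 ≠ 0 := by
    intro h
    apply hbY
    have : b = b0 := by
      have e2 : (2 : F) = 0 := CharTwo.two_eq_zero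
      linear_combination h - b0 * e2
    rw [this]; exact hY0
  set c := (b + b0) / b with hc
  have hc0 : c ≠ 0 := div_ne_zero hbb hb
  have hcb : c * b = b + b0 := div_mul_cancel₀ _ hb
  obtain ⟨h, hA, hN, hhr, hhu⟩ := H.exists_tor c hc0
  have h1 : h * (r * π (up b)) * h⁻¹ = r * π (up b) * π (up b0) := by
    have e : h * (r * π (up b)) * h⁻¹ = (h * r * h⁻¹) * (h * π (up b) * h⁻¹) := by group
    rw [e, hhr r hr, mul_inv_cancel_right, hhu, hcb, mul_assoc, H.uadd]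
  have h2 : cj h Y = Y := by
    apply H.LL_eq (H.cj_mem_LL hN hY) hY (y := h * (r * π (up b)) * h⁻¹) (mem_cj_mul hy)
    · rw [h1]; exact mul_mem hy hY0
    · intro h3
      have h4 : r * π (up b) = 1 := by
        have : h * (r * π (up b)) * h⁻¹ = h * 1 * h⁻¹ := by rw [h3]; group
        exact mul_left_cancel (mul_right_cancel this)
      apply hr1
      exact (H.uniq hr (one_mem _) (b' := 0) (by rw [h4, H.u0, one_mul])).1
  -- the additive group of `Y` is invariant under `c + 1`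
  let S : Set F := {x | π (up x) ∈ Y}
  have hS : ∀ x ∈ S, (c + 1) * x ∈ S := by
    intro x hx
    show π (up ((c + 1) * x)) ∈ Y
    have e : (c + 1) * x = c * x + x := by ring
    rw [e, ← H.uadd]
    refine mul_mem ?_ hx
    rw [← hhu]
    have : h * π (up x) * h⁻¹ ∈ cj h Y := mem_cj_mul hx
    rwa [h2] at this
  have hc1 : c + 1 ≠ 0 := by
    intro h3
    apply hb0
    have e2 : (2 : F) = 0 := CharTwo.two_eq_zero
    linear_combination b * h3 - hcb - b * e2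
  have hinj : Function.Injective (fun x : S => (⟨(c + 1) * x, hS x x.2⟩ : S)) := by
    intro x y h
    exact Subtype.ext (mul_left_cancel₀ hc1 (congrArg Subtype.val h))
  obtain ⟨⟨x, hx⟩, hxb⟩ := (Finite.injective_iff_surjective.1 hinj) ⟨b0, hY0⟩
  have hxb' : (c + 1) * x = (c + 1) * b := by
    have e2 : (2 : F) = 0 := CharTwo.two_eq_zero
    have h5 : (c + 1) * x = b0 := congrArg Subtype.val hxb
    rw [h5]
    linear_combination -hcb - b * e2
  have := mul_left_cancel₀ hc1 hxb'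
  rw [this] at hx
  exact hbY hx

end Pr

end Cfsg.Agent.OddHalf.D4.Rk2

end
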